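import Cfsg.Agent.Lib.Spor.Cos.Words

/-!
Data for the two-fusion of the McLaughlin group: involutions generating the Sylow subgroup, conjugators giving
distinct images of a pair of points.
-/

set_option autoImplicit false
set_option maxRecDepth 100000

namespace Cfsg.Agent.Fus.McLFusion

/-- Involutions, as paths in the generators of the two-group, with products the generators. -/
def genInv : List (List (List Nat)) := [[[0, 2, 1, 2], [2, 1, 2]], [[1, 0, 0], [0, 0]], [[2, 1, 2, 0], [1, 2, 0]]]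

/-- Conjugators, as paths in the generators of the centraliser. -/
def conjP : List (List Nat) := [
  [], [0], [1], [2], [3], [1, 0], [2, 0], [3, 0],
  [0, 1], [2, 1], [3, 1], [0, 2], [3, 2], [0, 3], [1, 3], [2, 3],
  [0, 1, 0], [2, 1, 0], [3, 1, 0], [0, 2, 0], [3, 2, 0], [0, 3, 0], [1, 3, 0], [2, 0, 1],
  [3, 2, 1], [1, 3, 1], [2, 3, 1], [2, 0, 2], [3, 0, 2], [0, 3, 2], [1, 3, 2], [2, 3, 2],
  [1, 0, 3], [2, 0, 3], [0, 1, 3], [2, 1, 3], [3, 1, 3], [0, 2, 3], [3, 2, 3], [2, 0, 1, 0],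
  [0, 2, 1, 0], [3, 2, 1, 0], [1, 3, 1, 0], [1, 0, 2, 0], [2, 0, 2, 0], [3, 0, 2, 0], [0, 3, 2, 0], [1, 3, 2, 0],
  [1, 0, 3, 0], [2, 0, 3, 0], [0, 1, 3, 0], [3, 1, 3, 0], [3, 2, 0, 1], [0, 3, 2, 1], [1, 3, 2, 1], [2, 3, 2, 1],
  [0, 1, 3, 1], [2, 1, 3, 1], [3, 1, 3, 1], [3, 2, 3, 1], [3, 2, 0, 2], [0, 3, 0, 2], [1, 0, 3, 2], [2, 0, 3, 2],
  [0, 1, 3, 2], [2, 1, 3, 2], [3, 1, 3, 2], [0, 2, 3, 2], [3, 2, 3, 2], [0, 1, 0, 3], [2, 1, 0, 3], [3, 1, 0, 3],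
  [0, 2, 0, 3], [3, 2, 0, 3], [2, 0, 1, 3], [3, 2, 1, 3], [2, 3, 1, 3], [2, 0, 2, 3], [3, 0, 2, 3], [0, 2, 0, 1, 0],
  [3, 2, 0, 1, 0], [1, 0, 2, 1, 0], [2, 0, 2, 1, 0], [3, 0, 2, 1, 0], [0, 3, 2, 1, 0], [1, 3, 2, 1, 0], [0, 1, 3, 1, 0], [3, 1, 3, 1, 0],
  [2, 1, 0, 2, 0], [3, 1, 0, 2, 0], [3, 2, 0, 2, 0], [0, 3, 0, 2, 0], [1, 3, 0, 2, 0], [2, 3, 0, 2, 0], [1, 0, 3, 2, 0], [2, 0, 3, 2, 0],
  [0, 1, 3, 2, 0], [3, 1, 3, 2, 0], [0, 1, 0, 3, 0], [2, 1, 0, 3, 0], [3, 1, 0, 3, 0], [0, 2, 0, 3, 0], [3, 2, 0, 3, 0], [2, 0, 1, 3, 0],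
  [0, 3, 2, 0, 1], [1, 0, 3, 2, 1]]

/-- Short paths. -/
def shortP : List (List Nat) := [[0], [1], [2], [0, 1], [1, 0], [0, 2], [2, 0], [1, 2], [2, 1]]

end Cfsg.Agent.Fus.McLFusion
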