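import Cfsg.Agent.Lib.Fus.SimpleCriterion
import Cfsg.Agent.Lib.Fus.McLFusion.Data
import Cfsg.Agent.Lib.Spor.Cos.McLOut.Cent

/-!
The 2-fusion system of the McLaughlin group is simple: the Sylow subgroup is generated by involutions, all of
which are conjugate, and it is its own normaliser, as seen on its orbit of two points.
-/

set_option autoImplicit false
set_option maxRecDepth 100000
set_option maxHeartbeats 4000000

open Cfsg.Agent.Spor.Cos Cfsg.Agent.Spor.Cos.McLOut Triple

namespace Cfsg.Agent.Fus.McLFusion

/-- The two-group. -/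
noncomputable abbrev S0 : Subgroup H := val g sylG

/-- The word of a path in some words. -/
def pathW (ws : List (List ℕ)) (p : List ℕ) : List ℕ := (p.map fun t => ws.getD t []).flatten

theorem ev_pathW_mem {ws : List (List ℕ)} {K' : Subgroup H} (hK : val g ws ≤ K') {p : List ℕ}
    (hp : (p.all fun t => Nat.blt t ws.length) = true) : ev g (pathW ws p) ∈ K' := by
  rw [pathW, ev_flatten, List.map_map]
  refine list_prod_mem fun y hy => ?_
  obtain ⟨t, ht, rfl⟩ := List.mem_map.1 hy
  have ht' : t < ws.length := Nat.le_of_ble_eq_true (List.all_eq_true.1 hp t ht)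
  exact hK (mem_val (w := ws.getD t []) (by rw [List.getD_eq_getElem _ _ ht']; exact List.getElem_mem _))

/-- The checks on the generators by involutions. -/
noncomputable def chkGenInv (k : ℕ) : Bool :=
  ((genInv.getD k []).all fun p => (p.all fun t => Nat.blt t sylG.length) &&
    sameW actA ptsA (pathW sylG p ++ pathW sylG p) []) &&
  sameW actA ptsA ((genInv.getD k []).map (pathW sylG)).flatten (sylG.getD k [])

theorem genInv_chk : ∀ k < 3, chkGenInv k = true := by decide +kernel

theorem sylG_len : sylG.length = 3 := by decide +kernel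

theorem le_closure_involutions : S0 ≤ Subgroup.closure {y : H | y ∈ S0 ∧ y * y = 1} := by
  refine (Subgroup.closure_le _).2 ?_
  rintro _ ⟨w, hw, rfl⟩
  obtain ⟨k, hk, rfl⟩ := List.getElem_of_mem hw
  have h := genInv_chk k (sylG_len ▸ hk)
  simp only [chkGenInv, Bool.and_eq_true] at h
  rw [SetLike.mem_coe, ← List.getD_eq_getElem _ [] hk, ← eq_of_same h.2, ev_flatten, List.map_map]
  refine list_prod_mem fun y hy => ?_
  obtain ⟨p, hp, rfl⟩ := List.mem_map.1 hy
  have hp' := List.all_eq_true.1 h.1 p hp
  rw [Bool.and_eq_true] at hp'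
  refine Subgroup.subset_closure ⟨ev_pathW_mem le_rfl hp'.1, ?_⟩
  show ev g (pathW sylG p) * ev g (pathW sylG p) = 1
  rw [← ev_append]
  exact eq_of_same (w := []) hp'.2

theorem syl_comm : (sylG.all fun w => sameW actA ptsA (w ++ [0]) ([0] ++ w)) = true := by decide +kernel

theorem S0_le : S0 ≤ C := comm_le syl_comm

theorem syl_one : sameW actA ptsA (decWord 40 (sylU.at sylOne)) [] = true := by decide +kernel

/-- An element of the two-group commutes with the generators only if it is one or the involution. -/
noncomputable def chkCentre : Bool :=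
  (List.range 128).all fun i => (fun u : List ℕ => sameW actA ptsA u [] || sameW actA ptsA u [0] ||
    sylG.any fun w => !(agree actA ptsA (u ++ w) (w ++ u))) (decWord 40 (sylU.at i))

theorem centre_chk : chkCentre = true := by decide +kernel

theorem z_mem_S0_chk : ((List.range 128).any fun i => sameW actA ptsA (decWord 40 (sylU.at i)) [0]) = true := by
  decide +kernel

theorem syl_letters : ((List.range 128).all fun i => (decWord 40 (sylU.at i)).all fun s => Nat.blt s 5) = true := by
  decide +kernel

theorem sylG_letters : (sylG.all fun w => w.all fun s => Nat.blt s 5) = true := by decide +kernel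

theorem el_mem {i : ℕ} (hi : i < 128) : ev g (decWord 40 (sylU.at i)) ∈ S0 := by
  have hp := syl_ok i hi
  simp only [chkSyl, Bool.and_eq_true, List.all_eq_true] at hp
  rw [eq_of_same hp.1.2.2, ev_flatten, List.map_map]
  refine list_prod_mem fun y hy => ?_
  obtain ⟨k, hk, rfl⟩ := List.mem_map.1 hy
  have hk' : k < sylG.length := Nat.le_of_ble_eq_true (hp.1.2.1 k hk)
  exact mem_val (w := sylG.getD k []) (by rw [List.getD_eq_getElem _ _ hk']; exact List.getElem_mem _)

theorem z_mem_S0 : g 0 ∈ S0 := by
  obtain ⟨i, hi, h⟩ := List.any_eq_true.1 z_mem_S0_chk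
  rw [← ev_zero, ← eq_of_same h]
  exact el_mem (List.mem_range.1 hi)

theorem centre_eq {y : H} (hy : y ∈ S0) (hc : ∀ w ∈ sylG, y * ev g w = ev g w * y) : y = 1 ∨ y = g 0 := by
  obtain ⟨i, hi, rfl⟩ := listed.1 y hy
  have h := List.all_eq_true.1 centre_chk i (List.mem_range.2 hi)
  simp only [Bool.or_eq_true, List.any_eq_true, Bool.not_eq_true'] at h
  rcases h with (h | h) | ⟨w, hw, h⟩
  · exact Or.inl (eq_of_same h)
  · exact Or.inr ((eq_of_same h).trans ev_zero)
  · exfalso
    have hu : ∀ s ∈ decWord 40 (sylU.at i), s < 5 := fun s hs => Nat.le_of_ble_eq_true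
      (List.all_eq_true.1 (List.all_eq_true.1 syl_letters i (List.mem_range.2 hi)) s hs)
    have hl : ∀ s ∈ w, s < 5 := fun s hs => Nat.le_of_ble_eq_true
      (List.all_eq_true.1 (List.all_eq_true.1 sylG_letters w hw) s hs)
    refine ne_of_not_agree (fun s hs => (List.mem_append.1 hs).elim (hu s) (hl s))
      (fun s hs => (List.mem_append.1 hs).elim (hl s) (hu s)) h ?_
    rw [ev_append, ev_append]
    exact hc w hw

theorem normalizer_le_C {x : H} (hx : x ∈ Subgroup.normalizer (S0 : Set H)) : x ∈ C := by
  have hcomm : ∀ w ∈ sylG, x * g 0 * x⁻¹ * ev g w = ev g w * (x * g 0 * x⁻¹) := by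
    intro w hw
    have hm : x⁻¹ * ev g w * x ∈ S0 := by
      have := (Subgroup.mem_normalizer_iff.1 (inv_mem hx) (ev g w)).1 (mem_val hw)
      rwa [inv_inv] at this
    have hzc := Subgroup.mem_centralizer_singleton_iff.1 (S0_le hm)
    calc x * g 0 * x⁻¹ * ev g w = x * (g 0 * (x⁻¹ * ev g w * x)) * x⁻¹ := by group
      _ = ev g w * (x * g 0 * x⁻¹) := by rw [← hzc]; group
  rcases centre_eq ((Subgroup.mem_normalizer_iff.1 hx _).1 z_mem_S0) hcomm with h | h
  · exact absurd (by rwa [mul_inv_eq_one, mul_eq_left] at h) (g_ne (s := 0) (by norm_num))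
  · rw [mul_inv_eq_iff_eq_mul] at h
    exact Subgroup.mem_centralizer_singleton_iff.2 h

/-- Every point outside the orbit of two points is fixed or moved to two other points. -/
noncomputable def chkOrbit (q : ℕ) : Bool :=
  Nat.beq q 57 || Nat.beq q 205 || ((sylG.all fun w => Nat.beq (actA.go w q) q)) ||
    shortP.any fun p => !(Nat.beq (actA.go (pathW sylG p) q) q) && shortP.any fun r =>
      !(Nat.beq (actA.go (pathW sylG r) q) q) &&
      !(Nat.beq (actA.go (pathW sylG r) q) (actA.go (pathW sylG p) q))

theorem orbit_chk : ∀ q < 275, chkOrbit q = true := by decide +kernel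

theorem short_ok : (shortP.all fun p => (p.all fun t => Nat.blt t sylG.length) &&
    (pathW sylG p).all fun s => Nat.blt s 5) = true := by decide +kernel

theorem pair_chk : (sylG.all fun w => (Nat.beq (actA.go w 57) 57 || Nat.beq (actA.go w 57) 205) &&
    (Nat.beq (actA.go w 205) 57 || Nat.beq (actA.go w 205) 205)) = true := by decide +kernel

theorem moved_chk : (!(sylG.all fun w => Nat.beq (actA.go w 57) 57) &&
    !(sylG.all fun w => Nat.beq (actA.go w 205) 205)) = true := by decide +kernel

/-- One of the two points. -/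
def ptA : Fin actA.N := ⟨57, by decide⟩

/-- The other of the two points. -/
def ptB : Fin actA.N := ⟨205, by decide⟩

theorem pair_mem {y : H} (hy : y ∈ S0) : ∀ p : Fin actA.N, p = ptA ∨ p = ptB →
    (pi y p = ptA ∨ pi y p = ptB) ∧ (pi y⁻¹ p = ptA ∨ pi y⁻¹ p = ptB) := by
  induction hy using Subgroup.closure_induction with
  | mem x hx =>
    obtain ⟨w, hw, rfl⟩ := hx
    have hl : ∀ s ∈ w, s < actA.n := fun s hs => Nat.le_of_ble_eq_true
      (List.all_eq_true.1 (List.all_eq_true.1 sylG_letters w hw) s hs)
    have h := List.all_eq_true.1 pair_chk w hw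
    simp only [Bool.and_eq_true, Bool.or_eq_true] at h
    have hf : ∀ p : Fin actA.N, p = ptA ∨ p = ptB → (pi (ev g w) p = ptA ∨ pi (ev g w) p = ptB) := by
      intro p hp
      have e := homA.apply_ev w hl p
      rcases hp with rfl | rfl
      · exact h.1.imp (fun h' => Fin.ext (e.trans (Nat.eq_of_beq_eq_true h')))
          fun h' => Fin.ext (e.trans (Nat.eq_of_beq_eq_true h'))
      · exact h.2.imp (fun h' => Fin.ext (e.trans (Nat.eq_of_beq_eq_true h')))
          fun h' => Fin.ext (e.trans (Nat.eq_of_beq_eq_true h'))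
    refine fun p hp => ⟨hf p hp, ?_⟩
    rw [map_inv]
    have inj := (pi (ev g w)).injective
    have hA := hf ptA (Or.inl rfl)
    have hB := hf ptB (Or.inr rfl)
    have hne : ptA ≠ ptB := by decide
    rcases hA with hA | hA
    · have hB' : pi (ev g w) ptB = ptB := hB.resolve_left fun e => hne (inj (hA.trans e.symm))
      rcases hp with rfl | rfl
      · exact Or.inl (by rw [Equiv.Perm.inv_eq_iff_eq, hA])
      · exact Or.inr (by rw [Equiv.Perm.inv_eq_iff_eq, hB'])
    · have hB' : pi (ev g w) ptB = ptA := hB.resolve_right fun e => hne (inj (hA.trans e.symm))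
      rcases hp with rfl | rfl
      · exact Or.inr (by rw [Equiv.Perm.inv_eq_iff_eq, hB'])
      · exact Or.inl (by rw [Equiv.Perm.inv_eq_iff_eq, hA])
  | one => intro p hp; simpa using hp
  | mul a b _ _ ha hb =>
    intro p hp
    refine ⟨?_, ?_⟩
    · rw [map_mul, Equiv.Perm.mul_apply]
      exact (ha _ (hb p hp).1).1
    · rw [mul_inv_rev, map_mul, Equiv.Perm.mul_apply]
      exact (hb _ (ha p hp).2).2
  | inv a _ ha => intro p hp; exact ⟨(ha p hp).2, by rw [inv_inv]; exact (ha p hp).1⟩

theorem normalizer_pair {x : H} (hx : x ∈ Subgroup.normalizer (S0 : Set H)) {p : Fin actA.N}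
    (hp : p = ptA ∨ p = ptB) : pi x p = ptA ∨ pi x p = ptB := by
  have key : ∀ y ∈ S0, pi y (pi x p) = pi x ptA ∨ pi y (pi x p) = pi x ptB := by
    intro y hy
    have hm : x⁻¹ * y * x ∈ S0 := by
      have := (Subgroup.mem_normalizer_iff.1 (inv_mem hx) y).1 hy
      rwa [inv_inv] at this
    have e : pi y (pi x p) = pi x (pi (x⁻¹ * y * x) p) := by
      rw [← Equiv.Perm.mul_apply, ← map_mul, ← Equiv.Perm.mul_apply, ← map_mul,
        show x * (x⁻¹ * y * x) = y * x by group]
    rw [e]
    exact ((pair_mem hm p hp).1).imp (congrArg _) (congrArg _)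
  set q := pi x p with hq
  have h := orbit_chk q q.2
  simp only [chkOrbit, Bool.or_eq_true, List.all_eq_true, List.any_eq_true, Bool.and_eq_true,
    Bool.not_eq_true'] at h
  rcases h with ((h | h) | h) | ⟨u, hu, hu1, v, hv, hv1, hv2⟩
  · exact Or.inl (Fin.ext (Nat.eq_of_beq_eq_true h))
  · exact Or.inr (Fin.ext (Nat.eq_of_beq_eq_true h))
  · exfalso
    have hfix : ∀ y ∈ S0, pi y q = q := by
      intro y hy
      induction hy using Subgroup.closure_induction with
      | mem z hz =>
        obtain ⟨w, hw, rfl⟩ := hz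
        exact Fin.ext ((homA.apply_ev w (fun s hs => Nat.le_of_ble_eq_true
          (List.all_eq_true.1 (List.all_eq_true.1 sylG_letters w hw) s hs)) q).trans
          (Nat.eq_of_beq_eq_true (h w hw)))
      | one => simp
      | mul a b _ _ ha hb => rw [map_mul, Equiv.Perm.mul_apply, hb, ha]
      | inv a _ ha => rw [map_inv, Equiv.Perm.inv_eq_iff_eq, ha]
    have hp' : ∀ y ∈ S0, pi y p = p := by
      intro y hy
      have := hfix _ ((Subgroup.mem_normalizer_iff.1 hx y).1 hy)
      rw [hq, ← Equiv.Perm.mul_apply, ← map_mul, show x * y * x⁻¹ * x = x * y by group, map_mul,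
        Equiv.Perm.mul_apply] at this
      exact (pi x).injective this
    have hm := moved_chk
    simp only [Bool.and_eq_true, Bool.not_eq_true', ← Bool.not_eq_true, List.all_eq_true] at hm
    have hgo : ∀ w ∈ sylG, Nat.beq (actA.go w p) p = true := fun w hw => by
      rw [← homA.apply_ev w (fun s hs => Nat.le_of_ble_eq_true
        (List.all_eq_true.1 (List.all_eq_true.1 sylG_letters w hw) s hs)), hp' _ (mem_val hw)]
      exact Nat.beq_refl _
    rcases hp with rfl | rfl
    exacts [hm.1 hgo, hm.2 hgo]
  · exfalso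
    have ok : ∀ r ∈ shortP, ev g (pathW sylG r) ∈ S0 ∧
        (pi (ev g (pathW sylG r)) q : ℕ) = actA.go (pathW sylG r) q := fun r hr => by
      have hr' := List.all_eq_true.1 short_ok r hr
      rw [Bool.and_eq_true] at hr'
      exact ⟨ev_pathW_mem le_rfl hr'.1,
        homA.apply_ev _ (fun s hs => Nat.le_of_ble_eq_true (List.all_eq_true.1 hr'.2 s hs)) q⟩
    have k0 := key 1 (one_mem _)
    rw [map_one, Equiv.Perm.one_apply] at k0
    have ku := key _ (ok u hu).1
    have kv := key _ (ok v hv).1
    have nu : pi (ev g (pathW sylG u)) q ≠ q := fun e => by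
      rw [← (ok u hu).2, e, Nat.beq_refl] at hu1; exact Bool.noConfusion hu1
    have nv : pi (ev g (pathW sylG v)) q ≠ q := fun e => by
      rw [← (ok v hv).2, e, Nat.beq_refl] at hv1; exact Bool.noConfusion hv1
    have nuv : pi (ev g (pathW sylG v)) q ≠ pi (ev g (pathW sylG u)) q := fun e => by
      rw [← (ok u hu).2, ← (ok v hv).2, e, Nat.beq_refl] at hv2; exact Bool.noConfusion hv2
    rcases k0 with k0 | k0 <;> rcases ku with ku | ku <;> rcases kv with kv | kv <;>
      first
      | exact nu (ku.trans k0.symm)
      | exact nv (kv.trans k0.symm)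
      | exact nuv (kv.trans ku.symm)

/-- The code of the image of the two points. -/
noncomputable def pairCode (p : List ℕ) : ℕ :=
  force (actA.go (pathW cenG p) 57) fun a => force (actA.go (pathW cenG p) 205) fun b =>
    bif Nat.blt a b then a * 275 + b else b * 275 + a

theorem conj_chk : (conjP.all fun p => (p.all fun t => Nat.blt t cenG.length) &&
    (pathW cenG p).all fun s => Nat.blt s 5) = true := by decide +kernel

theorem code_nodup : (conjP.map pairCode).Nodup := by decide +kernel

theorem conj_len : conjP.length = 106 := by decide +kernel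

theorem cmem (i : Fin 106) : conjP.getD (i : ℕ) [] ∈ conjP := by
  rw [List.getD_eq_getElem _ _ (show (i : ℕ) < conjP.length by rw [conj_len]; exact i.2)]
  exact List.getElem_mem _

theorem normalizer_eq {x : H} (hx : x ∈ Subgroup.normalizer (S0 : Set H)) : x ∈ S0 := by
  set N : Subgroup C := (Subgroup.normalizer (S0 : Set H)).subgroupOf C with hN
  have hle : S0.subgroupOf C ≤ N := Subgroup.comap_mono (Subgroup.le_normalizer)
  have mem : ∀ i : Fin 106, ev g (pathW cenG (conjP.getD (i : ℕ) [])) ∈ C := fun i => by
    have h := List.all_eq_true.1 conj_chk _ (cmem i)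
    rw [Bool.and_eq_true] at h
    exact card_facts.2.1 ▸ ev_pathW_mem (K' := K)
      ((Subgroup.closure_mono fun y ⟨w, hw, e⟩ => ⟨w, List.mem_cons_of_mem _ hw, e⟩)) h.1
  have hinj : Function.Injective fun i : Fin 106 => (QuotientGroup.mk (⟨_, mem i⟩ : C) : C ⧸ N) := by
    intro i j hij
    have hn := QuotientGroup.eq.1 hij
    rw [hN, Subgroup.mem_subgroupOf] at hn
    push_cast at hn
    have img : ∀ p, p = ptA ∨ p = ptB → pi (ev g (pathW cenG (conjP.getD (j : ℕ) []))) p =
        pi (ev g (pathW cenG (conjP.getD (i : ℕ) []))) ptA ∨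
        pi (ev g (pathW cenG (conjP.getD (j : ℕ) []))) p =
        pi (ev g (pathW cenG (conjP.getD (i : ℕ) []))) ptB := by
      intro p hp
      have := normalizer_pair hn hp
      rw [map_mul, map_inv, Equiv.Perm.mul_apply, Equiv.Perm.inv_eq_iff_eq, Equiv.Perm.inv_eq_iff_eq] at this
      exact this
    have go : ∀ (k : Fin 106) (p : Fin actA.N),
        (pi (ev g (pathW cenG (conjP.getD (k : ℕ) []))) p : ℕ) =
          actA.go (pathW cenG (conjP.getD (k : ℕ) [])) p := fun k p => by
      have h := List.all_eq_true.1 conj_chk _ (cmem k)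
      rw [Bool.and_eq_true] at h
      exact homA.apply_ev _ (fun s hs => Nat.le_of_ble_eq_true (List.all_eq_true.1 h.2 s hs)) p
    have hne : ptA ≠ ptB := by decide
    have hj' : pi (ev g (pathW cenG (conjP.getD (j : ℕ) []))) ptA ≠
        pi (ev g (pathW cenG (conjP.getD (j : ℕ) []))) ptB := fun e => hne ((pi _).injective e)
    have ecode : pairCode (conjP.getD (i : ℕ) []) = pairCode (conjP.getD (j : ℕ) []) := by
      simp only [pairCode, force_eq]
      rcases img ptA (Or.inl rfl) with a | a <;> rcases img ptB (Or.inr rfl) with b | b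
      · exact absurd (a.trans b.symm) hj'
      · have a' := congrArg Fin.val a
        have b' := congrArg Fin.val b
        rw [go, go] at a' b'
        change actA.go _ 57 = actA.go _ 57 at a'
        change actA.go _ 205 = actA.go _ 205 at b'
        rw [a', b']
      · have a' := congrArg Fin.val a
        have b' := congrArg Fin.val b
        rw [go, go] at a' b'
        change actA.go _ 57 = actA.go _ 205 at a'
        change actA.go _ 205 = actA.go _ 57 at b'
        have hne' : actA.go (pathW cenG (conjP.getD (j : ℕ) [])) 57 ≠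
            actA.go (pathW cenG (conjP.getD (j : ℕ) [])) 205 := by
          intro e
          apply hj'
          exact Fin.ext (by rw [go, go]; exact e)
        rw [← a', ← b']
        rcases lt_or_gt_of_ne hne' with hlt | hlt
        · rw [show Nat.blt _ _ = true from Nat.ble_eq_true_of_le hlt,
            show Nat.blt _ _ = false from Bool.eq_false_iff.2 fun e =>
              absurd (Nat.le_of_ble_eq_true e) (by omega)]
          rfl
        · rw [show Nat.blt (actA.go (pathW cenG (conjP.getD (j : ℕ) [])) 205)
              (actA.go (pathW cenG (conjP.getD (j : ℕ) [])) 57) = true from Nat.ble_eq_true_of_le hlt,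
            show Nat.blt _ _ = false from Bool.eq_false_iff.2 fun e =>
              absurd (Nat.le_of_ble_eq_true e) (by omega)]
          rfl
      · exact absurd (a.trans b.symm) hj'
    have hi : (i : ℕ) < conjP.length := conj_len.symm ▸ i.2
    have hj : (j : ℕ) < conjP.length := conj_len.symm ▸ j.2
    rw [List.getD_eq_getElem _ _ hi, List.getD_eq_getElem _ _ hj] at ecode
    refine Fin.ext (code_nodup.getElem_inj_iff (hi := by simpa using hi) (hj := by simpa using hj) |>.1 ?_)
    simpa using ecode
  have hidx : 106 ≤ N.index := by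
    simpa [Subgroup.index] using Nat.card_le_card_of_injective _ hinj
  have hC : Nat.card C = 40320 := card_facts.2.1 ▸ card_facts.1
  have hS : Nat.card (S0.subgroupOf C) = 128 := by
    rw [Nat.card_congr (Subgroup.subgroupOfEquivOfLe S0_le).toEquiv, listed.2]
  obtain ⟨m, hm⟩ := Subgroup.card_dvd_of_le hle
  rw [hS] at hm
  have hprod := N.index_mul_card
  rw [hC, hm] at hprod
  have hm1 : m = 1 := by
    rcases Nat.eq_zero_or_pos m with rfl | hm0
    · omega
    by_contra hne
    have h2 : m = 2 := by
      by_contra h2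
      have : 106 * (128 * 3) ≤ N.index * (128 * m) := Nat.mul_le_mul hidx (by omega)
      omega
    subst h2
    omega
  have heq : S0.subgroupOf C = N := Subgroup.eq_of_le_of_card_ge hle (by rw [hS, hm, hm1])
  have : (⟨x, normalizer_le_C hx⟩ : C) ∈ S0.subgroupOf C := heq ▸ (show _ ∈ N from hx)
  exact this

end Cfsg.Agent.Fus.McLFusion
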