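import Cfsg.Agent.Lib.Fus.McLFusion.Main

/-!
The 2-fusion system of a copy of the McLaughlin group is simple.
-/

set_option autoImplicit false
set_option maxHeartbeats 1000000

open Cfsg.Agent.Spor.Cos Cfsg.Agent.Spor.Cos.McLOut Triple

namespace Cfsg.Agent.Fus.McLFusion

theorem isSimple_aux {G : Type*} [Group G] [Finite G] (e : H ≃* G) (S : Sylow 2 G)
    (hS : (S : Subgroup G) = S0.map e.toMonoidHom) : (groupFusionSystem (S : Subgroup G)).IsSimple 2 := by
  have : Fact (Nat.Prime 2) := ⟨Nat.prime_two⟩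
  refine isSimple_group_of S ?_ ?_ ?_
  · intro h
    have hc : Nat.card (S0.map e.toMonoidHom) = 128 :=
      (Nat.card_congr (S0.equivMapOfInjective e.toMonoidHom e.injective).symm.toEquiv).trans listed.2
    rw [← hS, h, Subgroup.card_bot] at hc
    omega
  · intro T hTS hT1 _ hc
    obtain ⟨y, hy, hy2⟩ : ∃ y ∈ T, orderOf y = 2 := by
      have hp : IsPGroup 2 T := S.2.to_le hTS
      obtain ⟨x, hx⟩ : ∃ x : T, orderOf x = 2 := by
        refine exists_prime_orderOf_dvd_card' 2 ?_
        obtain ⟨n, hn⟩ := IsPGroup.iff_card.1 hp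
        rw [hn]
        rcases n with _ | n
        · exact absurd (Subgroup.card_eq_one.1 (hn.trans (pow_zero 2))) hT1
        · exact dvd_pow_self 2 (by omega)
      exact ⟨x, x.2, by rw [Subgroup.orderOf_coe, hx]⟩
    rw [hS, Subgroup.map_le_iff_le_comap]
    refine le_closure_involutions.trans ((Subgroup.closure_le _).2 ?_)
    rintro t ⟨ht, ht2⟩
    show e t ∈ T
    by_cases h1 : t = 1
    · rw [h1, map_one]; exact one_mem T
    obtain ⟨a, ha⟩ := _root_.isConj_iff.1
      ((conj_z (x := e.symm y) (by rw [MulEquiv.orderOf_eq, hy2])).symm.trans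
        (conj_z (x := t) (orderOf_eq_prime (by rw [sq, ht2]) h1)))
    have hat : e a * y * (e a)⁻¹ = e t := by
      rw [← ha, map_mul, map_mul, map_inv, e.apply_symm_apply]
    rw [← hat]
    refine hc (e a) y hy ?_
    rw [hat, hS]
    exact ⟨t, ht, rfl⟩
  · intro x hx
    refine Subgroup.subset_closure ⟨hx, Or.inl ?_⟩
    have key : e.symm x ∈ Subgroup.normalizer (S0 : Set H) := by
      refine Subgroup.mem_normalizer_iff.2 fun h => ?_
      have := Subgroup.mem_normalizer_iff.1 hx (e h)
      simp only [hS, Subgroup.mem_map_equiv, map_mul, map_inv, e.symm_apply_apply] at this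
      exact this
    rw [hS, Subgroup.mem_map_equiv]
    exact normalizer_eq key

theorem isSimple {G : Type*} [Group G] [Finite G] (hG : Cfsg.Spor.IsoMcL G) (S : Sylow 2 G) :
    (groupFusionSystem (S : Subgroup G)).IsSimple 2 := by
  have : Fact (Nat.Prime 2) := ⟨Nat.prime_two⟩
  obtain ⟨f⟩ := hG
  let e : H ≃* G := equivMcL.symm.trans f.symm
  have hG' : Nat.card G = 898128000 := (Nat.card_congr e.toEquiv).symm.trans card_H
  let P : Sylow 2 G := Sylow.ofCard (S0.map e.toMonoidHom) (by
    rw [(Nat.card_congr (S0.equivMapOfInjective e.toMonoidHom e.injective).symm.toEquiv).trans listed.2, hG',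
      fact_two]
    norm_num)
  obtain ⟨c, hc⟩ := MulAction.exists_smul_eq G P S
  refine isSimple_aux (e.trans (MulAut.conj c)) S ?_
  rw [← hc, Sylow.coe_subgroup_smul]
  show (S0.map e.toMonoidHom).map (MulAut.conj c).toMonoidHom = _
  rw [Subgroup.map_map]
  rfl

end Cfsg.Agent.Fus.McLFusion
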